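import Cfsg.Prelude.Def_Blocks
import Cfsg.Agent.Characters.Core
import Cfsg.Agent.Blocks.Basic
import Cfsg.Agent.Blocks.Local
import Cfsg.Agent.Blocks.PPart
import Cfsg.Agent.Blocks.CentralizerSum
import Cfsg.Agent.Lib.Cores
import Cfsg.Agent.S0906
import Cfsg.Agent.S0907
import Cfsg.Agent.S0908
import Cfsg.Agent.S0911
import Cfsg.Agent.S0912
import Cfsg.Agent.S0914
import Cfsg.Agent.S0917
import Cfsg.Agent.S0920
import Cfsg.Agent.S0924
import Cfsg.Agent.S0928
import Cfsg.Agent.S0968
set_option linter.all false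

/-!
# 2-blocks with a defect group of order two
-/

set_option autoImplicit false

open Cfsg Cfsg.Agent.Blocks Cfsg.Agent.Blocks.Basic Cfsg.Agent.Blocks.Local
open scoped ComplexConjugate

namespace Cfsg.Agent.H609.TwoDefect

section Gen

variable {G : Type*} [Group G] {p : ℕ} [Fact p.Prime] {M : Ideal AlgInt}

/-- Every block has a defect group. -/
theorem exists_defectGroup [Finite G] (hM : IsPModular p M) {B : Set (IrrCharacter G)}
    (hB : IsPBlock M B) : ∃ D : Subgroup G, IsDefectGroup p M B D := by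
  obtain ⟨g, hg⟩ := Cfsg.Agent.S0906.result p M hM B hB
  obtain ⟨P⟩ : Nonempty (Sylow p (Subgroup.centralizer ({g} : Set G))) := inferInstance
  exact ⟨_, g, hg, P, rfl⟩

/-- Defect groups are conjugate. -/
theorem defectGroup_conj [Finite G] (hM : IsPModular p M) {B : Set (IrrCharacter G)}
    (hB : IsPBlock M B) {D D' : Subgroup G} (hD : IsDefectGroup p M B D)
    (hD' : IsDefectGroup p M B D') : ∃ x : G, D' = D.map (MulAut.conj x).toMonoidHom := by
  obtain ⟨g, hg, P, rfl⟩ := hD
  obtain ⟨g', hg', P', rfl⟩ := hD'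
  obtain ⟨x, Q, hQ⟩ := (Cfsg.Agent.S0911.result p M hM B hB g hg P g').1 hg'.1 hg'.2.1
  have hcard : Nat.card ((P' : Subgroup (Subgroup.centralizer ({g'} : Set G))).map
      (Subgroup.centralizer ({g'} : Set G)).subtype) =
      Nat.card ((P : Subgroup (Subgroup.centralizer ({g} : Set G))).map
      (Subgroup.centralizer ({g} : Set G)).subtype) := by
    have h1 := Cfsg.Agent.S0908.result p M hM B hB _ ⟨g', hg', P', rfl⟩
    have h2 := Cfsg.Agent.S0908.result p M hM B hB _ ⟨g, hg, P, rfl⟩
    exact h1.trans h2.symm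
  obtain ⟨c, -, hPQ⟩ := isSylowCentralizer_conj_of_isConj
    (p := p) (g := g') (h := g') ⟨Q, rfl⟩ ⟨P', rfl⟩ (IsConj.refl g')
  refine ⟨c * x, ?_⟩
  have hle : (P' : Subgroup (Subgroup.centralizer ({g'} : Set G))).map
      (Subgroup.centralizer ({g'} : Set G)).subtype ≤
      ((P : Subgroup (Subgroup.centralizer ({g} : Set G))).map
      (Subgroup.centralizer ({g} : Set G)).subtype).map
        (MulAut.conj (c * x)).toMonoidHom := by
    rw [hPQ, ← map_conj_map_conj]
    exact Subgroup.map_mono hQ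
  refine Subgroup.eq_of_le_of_card_ge hle ?_
  rw [hcard]
  exact (Nat.card_congr (Subgroup.equivMapOfInjective _ _
    (MulAut.conj (c * x)).injective).toEquiv).ge

/-- The normalizer of a subgroup of order two is the centralizer of its generator. -/
theorem normalizer_zpowers {x : G} (hx : orderOf x = 2) :
    Subgroup.normalizer ((Subgroup.zpowers x : Subgroup G) : Set G) =
      Subgroup.centralizer ({x} : Set G) := by
  classical
  have hz : ∀ y : G, y ∈ Subgroup.zpowers x ↔ y = 1 ∨ y = x := by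
    intro y
    constructor
    · intro hy
      have hfin : IsOfFinOrder x := orderOf_pos_iff.1 (by rw [hx]; norm_num)
      obtain ⟨n, hn, rfl⟩ := hfin.mem_zpowers_iff_mem_range_orderOf.1 hy |> Finset.mem_image.1
      rw [hx] at hn
      have : n < 2 := Finset.mem_range.1 hn
      interval_cases n
      · exact Or.inl (pow_zero x)
      · exact Or.inr (pow_one x)
    · rintro (rfl | rfl)
      · exact one_mem _
      · exact Subgroup.mem_zpowers _
  have hx1 : x ≠ 1 := by
    rintro rfl
    rw [orderOf_one] at hx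
    norm_num at hx
  ext g
  rw [Subgroup.mem_centralizer_singleton_iff]
  constructor
  · intro hg
    have h1 := (Subgroup.mem_normalizer_iff.1 hg x).1 (Subgroup.mem_zpowers x)
    rcases (hz _).1 h1 with h2 | h2
    · exfalso
      apply hx1
      calc x = g⁻¹ * (g * x * g⁻¹) * g := by group
        _ = 1 := by rw [h2]; group
    · calc g * x = g * x * g⁻¹ * g := by group
        _ = x * g := by rw [h2]
  · intro hg
    rw [Subgroup.mem_normalizer_iff]
    intro h
    have h2 : g * x * g⁻¹ = x := by rw [hg]; group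
    rw [hz, hz]
    constructor
    · rintro (rfl | rfl)
      · left; group
      · right; exact h2
    · rintro (h3 | h3)
      · left
        calc h = g⁻¹ * (g * h * g⁻¹) * g := by group
          _ = 1 := by rw [h3]; group
      · right
        have h4 : g * h * g⁻¹ = g * x * g⁻¹ := by rw [h3, h2]
        exact mul_left_cancel (mul_right_cancel h4)

end Gen

section Main

variable {G : Type*} [Group G] [Finite G] {M : Ideal AlgInt}

/-- If `⟨x⟩`, `x` an involution, is a defect group of `B` and the block `b` of `C_G(x)` induces `B`,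
then `⟨x⟩` is a defect group of `b`. -/
theorem defectGroup_of_induced (hM : IsPModular 2 M) {x : G} (hx : orderOf x = 2)
    {B : Set (IrrCharacter G)} (hB : IsPBlock M B) (hBD : IsDefectGroup 2 M B (Subgroup.zpowers x))
    {H : Subgroup G} (hH : H = Subgroup.centralizer ({x} : Set G))
    {b : Set (IrrCharacter H)} (hb : IsInducedBlock M H b B) :
    IsDefectGroup 2 M b ((Subgroup.zpowers x).subgroupOf H) := by
  have hxH : x ∈ H := hH ▸ Subgroup.mem_centralizer_singleton_iff.2 rfl
  obtain ⟨D, hD⟩ := exists_defectGroup hM hb.1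
  obtain ⟨E, hE, hDE⟩ := S0917.result 2 M hM H b hb.1 B hB hb D hD
  have hcE : Nat.card E = 2 := by
    rw [S0908.result 2 M hM B hB E hE, ← S0908.result 2 M hM B hB _ hBD, Nat.card_zpowers, hx]
  have hcD : Nat.card (D.map H.subtype) ≤ 2 := by
    rw [← hcE]
    exact Subgroup.card_le_of_le hDE
  rw [Subgroup.card_map_of_injective H.subtype_injective] at hcD
  have hxD : (⟨x, hxH⟩ : H) ∈ D := by
    refine S0912.result 2 M hM b hb.1 D hD ?_
    have hcen : Subgroup.zpowers (⟨x, hxH⟩ : H) ≤ Subgroup.center H := by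
      rw [Subgroup.zpowers_le, Subgroup.mem_center_iff]
      intro g
      apply Subtype.ext
      exact Subgroup.mem_centralizer_singleton_iff.1 (hH ▸ g.2)
    have hn : (Subgroup.zpowers (⟨x, hxH⟩ : H)).Normal := by
      refine ⟨fun n hn g => ?_⟩
      have := Subgroup.mem_center_iff.1 (hcen hn) g
      rw [this, mul_inv_cancel_right]
      exact hn
    refine Lib.Cores.le_pCore hn ?_ (Subgroup.mem_zpowers _)
    refine IsPGroup.of_card (n := 1) ?_
    rw [Nat.card_zpowers, Subgroup.orderOf_mk, hx, pow_one]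
  have hle : (Subgroup.zpowers x).subgroupOf H ≤ D := by
    intro y hy
    rw [Subgroup.mem_subgroupOf] at hy
    obtain ⟨n, hn⟩ := Subgroup.mem_zpowers_iff.1 hy
    have : y = (⟨x, hxH⟩ : H) ^ n := Subtype.ext (by simpa using hn.symm)
    rw [this]
    exact D.zpow_mem hxD n
  have hcz : Nat.card ((Subgroup.zpowers x).subgroupOf H) = 2 := by
    rw [Nat.card_congr (Subgroup.subgroupOfEquivOfLe
      (show Subgroup.zpowers x ≤ H from (Subgroup.zpowers_le).2 hxH)).toEquiv, Nat.card_zpowers, hx]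
  have : (Subgroup.zpowers x).subgroupOf H = D :=
    Subgroup.eq_of_le_of_card_ge hle (by rw [hcz]; exact hcD)
  rw [this]
  exact hD

/-- The blocks of `C_G(x)` inducing `B` coincide. -/
theorem induced_unique (hM : IsPModular 2 M) {x : G} (hx : orderOf x = 2)
    {B : Set (IrrCharacter G)} (hB : IsPBlock M B) (hBD : IsDefectGroup 2 M B (Subgroup.zpowers x))
    {H : Subgroup G} (hH : H = Subgroup.centralizer ({x} : Set G))
    {b b' : Set (IrrCharacter H)} (hb : IsInducedBlock M H b B) (hb' : IsInducedBlock M H b' B) :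
    b = b' := by
  have h1 := defectGroup_of_induced hM hx hB hBD hH hb
  have h2 := defectGroup_of_induced hM hx hB hBD hH hb'
  have hN : H = Subgroup.normalizer ((Subgroup.zpowers x : Subgroup G) : Set G) := by
    rw [normalizer_zpowers hx, hH]
  clear hH
  subst hN
  have hp : IsPGroup 2 (Subgroup.zpowers x) := by
    refine IsPGroup.of_card (n := 1) ?_
    rw [Nat.card_zpowers, hx, pow_one]
  obtain ⟨c, -, hc⟩ := (S0920.result 2 M hM (Subgroup.zpowers x) hp).2 B hB hBD
  rw [hc b ⟨hb.1, h1, hb⟩, hc b' ⟨hb'.1, h2, hb'⟩]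

/-- The structure of the block of `C_G(x)`. -/
theorem block_eq_pair (hM : IsPModular 2 M) {x : G} (hx : orderOf x = 2)
    {H : Subgroup G} (hH : H = Subgroup.centralizer ({x} : Set G))
    {b : Set (IrrCharacter H)} (hb : IsPBlock M b)
    (hbD : IsDefectGroup 2 M b ((Subgroup.zpowers x).subgroupOf H)) (xH : H) (hxH : (xH : G) = x)
    {θ : IrrCharacter H} (hθ : θ ∈ b) (hθx : (θ : H → ℂ) xH = (θ : H → ℂ) 1) :
    ∃ θ' : IrrCharacter H, θ' ≠ θ ∧ b = {θ, θ'} ∧
      (∀ y : H, (θ : H → ℂ) (xH * y) = (θ : H → ℂ) y) ∧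
      (∀ y : H, (θ' : H → ℂ) (xH * y) = - (θ' : H → ℂ) y) ∧
      (∀ y : H, ¬ 2 ∣ orderOf y → (θ' : H → ℂ) y = (θ : H → ℂ) y) := by
  classical
  have hMp := isPrime_of_isPModular hM
  have : Finite (IrrCharacter H) := Characters.Core.finite_irr
  have hordx : orderOf xH = 2 := by rw [← Subgroup.orderOf_coe, hxH, hx]
  have hxc : xH ∈ Subgroup.center H := by
    rw [Subgroup.mem_center_iff]
    intro g
    apply Subtype.ext
    rw [Subgroup.coe_mul, Subgroup.coe_mul, hxH]
    exact Subgroup.mem_centralizer_singleton_iff.1 (hH ▸ g.2)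
  have hxx : xH * xH = 1 := by
    rw [← pow_two, ← hordx, pow_orderOf_eq_one]
  have hz : (Subgroup.zpowers x).subgroupOf H = Subgroup.zpowers xH := by
    ext y
    rw [Subgroup.mem_subgroupOf, Subgroup.mem_zpowers_iff, Subgroup.mem_zpowers_iff]
    constructor
    · rintro ⟨n, hn⟩
      exact ⟨n, Subtype.ext (by rw [← hn, ← hxH]; simp)⟩
    · rintro ⟨n, rfl⟩
      exact ⟨n, by rw [← hxH]; simp⟩
  rw [hz] at hbD
  have hp : IsPGroup 2 (Subgroup.zpowers xH) := by
    refine IsPGroup.of_card (n := 1) ?_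
    rw [Nat.card_zpowers, hordx, pow_one]
  have hcen : Subgroup.centralizer ((Subgroup.zpowers xH : Subgroup H) : Set H) = ⊤ := by
    rw [eq_top_iff]
    intro g _
    rw [Subgroup.mem_centralizer_iff]
    rintro w ⟨n, rfl⟩
    exact ((show Commute xH g from (Subgroup.mem_center_iff.1 hxc g).symm).zpow_left n)
  obtain ⟨⟨φ, hφ, hφu⟩, -, hcard⟩ := S0968.result 2 M hM (Subgroup.zpowers xH) hp
    (by rw [hcen, sup_top_eq]) b hb hbD
  have hcc : Nat.card (ConjClasses (Subgroup.zpowers xH)) = 2 := by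
    have h1 : Nat.card (ConjClasses (Subgroup.zpowers xH)) = Nat.card (Subgroup.zpowers xH) := by
      let _ : CommGroup (Subgroup.zpowers xH) := IsCyclic.commGroup
      exact (Nat.card_congr (ConjClasses.mkEquiv (α := Subgroup.zpowers xH))).symm
    rw [h1, Nat.card_zpowers, hordx]
  rw [hcc] at hcard
  -- scalars
  have hsc : ∀ ψ : IrrCharacter H, ∃ c : ℂ, (c = 1 ∨ c = -1) ∧
      ∀ y : H, (ψ : H → ℂ) (xH * y) = c * (ψ : H → ℂ) y := by
    intro ψ
    obtain ⟨c, -, hc⟩ := CentralizerSum.exists_central_scalar ψ.2 hxc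
    refine ⟨c, ?_, hc⟩
    have h1 : (ψ : H → ℂ) 1 = c * (c * (ψ : H → ℂ) 1) := by
      rw [← hc, ← hc, mul_one, hxx]
    have h2 := irr_one_ne_zero ψ.2
    have h3 : c * c = 1 := by
      have : (c * c - 1) * (ψ : H → ℂ) 1 = 0 := by linear_combination -h1
      rcases mul_eq_zero.1 this with h4 | h4
      · linear_combination h4
      · exact absurd h4 h2
    have h4 : (c - 1) * (c + 1) = 0 := by linear_combination h3
    rcases mul_eq_zero.1 h4 with h5 | h5
    · left; linear_combination h5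
    · right; linear_combination h5
  have hone : ∀ ψ : IrrCharacter H, (∀ y : H, (ψ : H → ℂ) (xH * y) = (ψ : H → ℂ) y) →
      ∀ w ∈ Subgroup.zpowers xH, (ψ : H → ℂ) w = (ψ : H → ℂ) 1 := by
    intro ψ hψ w hw
    have hfin : IsOfFinOrder xH := orderOf_pos_iff.1 (by rw [hordx]; norm_num)
    obtain ⟨n, hn, rfl⟩ := Finset.mem_image.1 (hfin.mem_zpowers_iff_mem_range_orderOf.1 hw)
    rw [hordx] at hn
    have : n < 2 := Finset.mem_range.1 hn
    interval_cases n
    · rw [pow_zero]
    · rw [pow_one, ← hψ 1, mul_one]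
  have hθ1 : ∀ y : H, (θ : H → ℂ) (xH * y) = (θ : H → ℂ) y := by
    obtain ⟨c, hc, hc'⟩ := hsc θ
    have h1 := hc' 1
    rw [mul_one, hθx] at h1
    have h2 := irr_one_ne_zero θ.2
    have h3 : c = 1 := by
      rcases hc with h | h
      · exact h
      · exfalso
        rw [h] at h1
        apply h2
        linear_combination h1 / 2
    intro y
    rw [hc', h3, one_mul]
  have hθφ : θ = φ := hφu θ ⟨hθ, hone θ hθ1⟩
  -- the second character
  obtain ⟨θ', hθ'b, hθ'⟩ : ∃ θ' ∈ b, θ' ≠ θ := by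
    by_contra hcon
    push Not at hcon
    have h1 : b = {θ} := by
      ext ψ
      rw [Set.mem_singleton_iff]
      exact ⟨fun h => hcon ψ h, fun h => h ▸ hθ⟩
    rw [h1] at hcard
    simp at hcard
  have hb2 : b = {θ, θ'} := by
    symm
    apply Set.eq_of_subset_of_ncard_le
    · rintro ψ (rfl | rfl)
      · exact hθ
      · exact hθ'b
    · rw [Set.ncard_pair hθ'.symm]
      have : b.ncard = 2 := hcard
      rw [this]
    · exact Set.toFinite b
  have hθ'1 : ∀ y : H, (θ' : H → ℂ) (xH * y) = - (θ' : H → ℂ) y := by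
    obtain ⟨c, hc, hc'⟩ := hsc θ'
    have h3 : c = -1 := by
      rcases hc with h | h
      · exfalso
        apply hθ'
        rw [hθφ]
        exact hφu θ' ⟨hθ'b, hone θ' (fun y => by rw [hc', h, one_mul])⟩
      · exact h
    intro y
    rw [hc', h3]; ring
  refine ⟨θ', hθ', hb2, hθ1, hθ'1, ?_⟩
  -- weak orthogonality
  have horth : ∀ y : H, ¬ 2 ∣ orderOf y →
      (θ : H → ℂ) y * (θ : H → ℂ) 1 = (θ' : H → ℂ) y * (θ' : H → ℂ) 1 := by
    intro y hy
    have h1 := S0907.result 2 M hM b hb y xH hy (by rw [hordx])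
    rw [hb2, finsum_mem_pair hθ'.symm] at h1
    have h2 : (θ : H → ℂ) xH = (θ : H → ℂ) 1 := hθx
    have h3 : (θ' : H → ℂ) xH = - (θ' : H → ℂ) 1 := by rw [← hθ'1 1, mul_one]
    obtain ⟨n, -, hn⟩ := irr_one_eq_natCast θ.2
    obtain ⟨n', -, hn'⟩ := irr_one_eq_natCast θ'.2
    rw [h2, h3, map_neg, hn, hn', map_natCast, map_natCast] at h1
    rw [hn, hn']
    linear_combination h1
  have hdeg : (θ' : H → ℂ) 1 = (θ : H → ℂ) 1 := by
    have h1 := horth 1 (by rw [orderOf_one]; norm_num)
    obtain ⟨n, hn0, hn⟩ := irr_one_eq_natCast θ.2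
    obtain ⟨n', hn0', hn'⟩ := irr_one_eq_natCast θ'.2
    rw [hn, hn'] at h1 ⊢
    have h2 : n * n = n' * n' := by exact_mod_cast h1
    have h3 : n = n' := Nat.mul_self_inj.1 h2
    rw [h3]
  intro y hy
  have h1 := horth y hy
  rw [hdeg] at h1
  have h2 := irr_one_ne_zero θ.2
  exact (mul_right_cancel₀ h2 h1).symm

end Main

end Cfsg.Agent.H609.TwoDefect
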