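import Cfsg.Agent.H232.RowTools_m3
import Cfsg.Agent.OddHalf.LongSL.Tw_m3
import Cfsg.Agent.Prune
set_option linter.all false
prune_inst 0x7f00000000000000000000000000000000000000000000000000000000000000000000000000000000000000000000000000000000000000000000000000000000000000000000000000000000000000003fffffffffffffffffffffffffffbeffbdffffffff
open scoped Cfsg.Agent.FastGrp

/-!
# Commuting pairs in the exceptional groups (`HasPair`): `F₄, E₆, E₇, E₈` and `²E₆` over fields of odd order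
-/

set_option autoImplicit false
set_option linter.unusedSectionVars false

namespace Cfsg.Agent.H609.PairExc

open Subgroup Matrix
open CoxeterSystem
open Cfsg Cfsg.Lie Cfsg.Lie.ChevalleyDatum
open Cfsg.Agent.ChevalleyStructure Cfsg.Agent.ChevalleyStructure.Elts Cfsg.Agent.ChevalleyStructure.NPerm
open Cfsg.Agent.ChevalleyStructure.CoxeterGeom Cfsg.Agent.Tits.Roots
open Cfsg.Agent.Nodes.Reps Cfsg.Agent.Nodes.BNOf Cfsg.Agent.Nodes.RGDChev Cfsg.Agent.Nodes.Bruhat
open Cfsg.Agent.OddHalf.LongSL Cfsg.Agent.OddHalf.LongSL.Chev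
open Cfsg.Agent.ChevalleyStructure.SL2Hom (up lo)
open Cfsg.Agent.H233.T (HasPair)
open Cfsg.Agent.H609.PairAbs

/-- the root groups of `± p_i`, `± p_j` commute -/
def chkC (D : ChevalleyDatum) (i j : ℕ) : Bool :=
  (D.simple j != D.simple i && D.simple j != D.neg (D.simple i) && D.neg (D.simple j) != D.simple i &&
    D.neg (D.simple j) != D.neg (D.simple i)) &&
  ((D.commTerms (D.simple i) (D.simple j)).isEmpty && (D.commTerms (D.simple i) (D.neg (D.simple j))).isEmpty &&
    (D.commTerms (D.neg (D.simple i)) (D.simple j)).isEmpty &&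
    (D.commTerms (D.neg (D.simple i)) (D.neg (D.simple j))).isEmpty)

section Main

variable {D : ChevalleyDatum} {l : ℕ} {M : CoxeterMatrix (Fin l)} (hp : IsType D l M) (K : Type) [Field K]

theorem commute_four {i j : Fin l} (h : chkC D i j = true) (t u : K) :
    (xG hp.inList (D.simple i) t * xG hp.inList (D.simple j) u = xG hp.inList (D.simple j) u * xG hp.inList (D.simple i) t) ∧
    (xG hp.inList (D.simple i) t * xG hp.inList (D.neg (D.simple j)) u =
      xG hp.inList (D.neg (D.simple j)) u * xG hp.inList (D.simple i) t) ∧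
    (xG hp.inList (D.neg (D.simple i)) t * xG hp.inList (D.simple j) u =
      xG hp.inList (D.simple j) u * xG hp.inList (D.neg (D.simple i)) t) ∧
    (xG hp.inList (D.neg (D.simple i)) t * xG hp.inList (D.neg (D.simple j)) u =
      xG hp.inList (D.neg (D.simple j)) u * xG hp.inList (D.neg (D.simple i)) t) := by
  simp only [chkC, Bool.and_eq_true, bne_iff_ne, List.isEmpty_iff] at h
  obtain ⟨⟨⟨⟨h1, h2⟩, h3⟩, h4⟩, ⟨⟨h5, h6⟩, h7⟩, h8⟩ := h
  have hi := simple_lt hp.inList (lt_rank hp i)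
  have hj := simple_lt hp.inList (lt_rank hp j)
  have hni := neg_lt hp.inList hi
  have hnj := neg_lt hp.inList hj
  refine ⟨(commute_xG hp K hi hj h1 h2 h5 t u).symm, (commute_xG hp K hi hnj h3 h4 h6 t u).symm,
    (commute_xG hp K hni hj h2 ?_ h7 t u).symm, (commute_xG hp K hni hnj h4 ?_ h8 t u).symm⟩
  · rw [RootVec.neg_neg hp.checked hi]; exact h1
  · rw [RootVec.neg_neg hp.checked hi]; exact h3

theorem phi_ker (i : Fin l) (g : _root_.Matrix.SpecialLinearGroup (Fin 2) K) (hg : phi hp K i g = 1) : g = 1 ∨ g = -1 := by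
  have hr := simple_lt hp.inList (lt_rank hp i)
  have hg' : SL2Hom.phi (SL2All.good_of_mem D hp.inList (D.simple i) hr) K g = 1 := congrArg Subtype.val hg
  exact phi_eq_one _ hg'

include hp in
/-- **Two commuting nodes of a Chevalley group.** -/
theorem hasPair_chev [Fintype K] {r : ℕ} [CharP K r] (hK : Odd (Fintype.card K)) (hl : 3 ≤ l) {i j : Fin l}
    (h : chkC D i j = true) {p : ℕ} (hpp : p.Prime) (hp2 : p ≠ 2) (hd : p ∣ Fintype.card K ^ 2 - 1) :
    HasPair r p ↥(D.group K) := by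
  classical
  have hrp : r.Prime := (CharP.char_is_prime_or_zero K r).resolve_right (CharP.char_ne_zero_of_finite K r)
  have : Fact r.Prime := ⟨hrp⟩
  have h2K : (2 : K) ≠ 0 := two_ne_of_odd hK
  let cs : CoxeterSystem M M.Group := M.toCoxeterSystem
  have hfin : Finite M.Group := finite_W hp cs
  have hR := rgd (K := K) hp cs r
  have hup : ∀ (i : Fin l) (t : K), phi hp K i (up t) ∈ (XV D l K (sr i)).subgroupOf (D.group K) := by
    intro i t
    rw [Subgroup.mem_subgroupOf, phi_up, XV_sr hp i]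
    exact xG_mem_rootSubgroup _ _ _
  have hlo : ∀ (i : Fin l) (t : K), phi hp K i (lo t) ∈ (XV D l K (-sr i)).subgroupOf (D.group K) := by
    intro i t
    rw [Subgroup.mem_subgroupOf, phi_lo, XV_neg_sr hp i]
    exact xG_mem_rootSubgroup _ _ _
  refine hasPair_of_two hR (by rw [Fintype.card_fin]; exact hl) (isRoot_sr cs hp.isCartan i)
    (isRoot_sr cs hp.isCartan j) h2K (phi_ker hp K i) (phi_ker hp K j) (hup i) (hlo i) (hup j) (hlo j) ?_ hpp hp2 hd hd
  refine commute_ranges (fun t u => Subtype.ext ?_) (fun t u => Subtype.ext ?_) (fun t u => Subtype.ext ?_)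
    (fun t u => Subtype.ext ?_)
  · rw [Subgroup.coe_mul, Subgroup.coe_mul, phi_up, phi_up]
    exact (commute_four hp K h t u).1
  · rw [Subgroup.coe_mul, Subgroup.coe_mul, phi_up, phi_lo]
    exact (commute_four hp K h t u).2.1
  · rw [Subgroup.coe_mul, Subgroup.coe_mul, phi_lo, phi_up]
    exact (commute_four hp K h t u).2.2.1
  · rw [Subgroup.coe_mul, Subgroup.coe_mul, phi_lo, phi_lo]
    exact (commute_four hp K h t u).2.2.2

end Main

section Rows

variable {K : Type} [Field K] [Fintype K] {r : ℕ} [CharP K r] (hK : Odd (Fintype.card K)) {p : ℕ} (hpp : p.Prime)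
  (hp2 : p ≠ 2) (hd : p ∣ Fintype.card K ^ 2 - 1)

include hK hpp hp2 hd

theorem F4 : HasPair r p ↥(chevF4.group K) :=
  hasPair_chev (D := chevF4) (l := 4) (M := CoxeterMatrix.F₄) (by simp [IsType, typeList]) K hK (by norm_num) (i := 0)
    (j := 2) (by decide +kernel) hpp hp2 hd

theorem E6 : HasPair r p ↥(chevE6.group K) :=
  hasPair_chev (D := chevE6) (l := 6) (M := CoxeterMatrix.E₆) (by simp [IsType, typeList]) K hK (by norm_num) (i := 0)
    (j := 1) (by decide +kernel) hpp hp2 hd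

theorem E7 : HasPair r p ↥(chevE7.group K) :=
  hasPair_chev (D := chevE7) (l := 7) (M := CoxeterMatrix.E₇) (by simp [IsType, typeList]) K hK (by norm_num) (i := 0)
    (j := 1) (by decide +kernel) hpp hp2 hd

theorem E8 : HasPair r p ↥(chevE8.group K) :=
  hasPair_chev (D := chevE8) (l := 8) (M := CoxeterMatrix.E₈) (by simp [IsType, typeList]) K hK (by norm_num) (i := 0)
    (j := 1) (by decide +kernel) hpp hp2 hd

end Rows

/-! ### `²E₆` -/

section TwE

open Cfsg.Agent.ChevalleyStructure.TwE6Basic (posE negE sg fix exists_frob twisted_le_fix single_mem pair_mem hE6)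
open Cfsg.Agent.ChevalleyStructure.TwE6BN (rs x_mem_rs)
open Cfsg.Agent.OddHalf.LongSL.Fold

theorem simple_E6 : chevE6.simple 1 = 46 ∧ chevE6.neg 46 = 25 ∧ chevE6.simple 0 = 56 ∧ chevE6.neg 56 = 15 ∧
    chevE6.simple 5 = 36 ∧ chevE6.neg 36 = 35 := by decide +kernel

theorem chk10 : chkC chevE6 1 0 = true := by decide +kernel
theorem chk15 : chkC chevE6 1 5 = true := by decide +kernel
theorem chk05 : chkC chevE6 0 5 = true := by decide +kernel

variable {K : Type} [Field K]

abbrev hp : IsType chevE6 6 CoxeterMatrix.E₆ := Cfsg.Agent.Nodes.RGDTwE6.hp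

theorem map_up' (φ : K →+* K) (t : K) : SpecialLinearGroup.map φ (up t) = up (φ t) := by
  apply Subtype.ext
  show φ.mapMatrix (up t).1 = (up (φ t)).1
  ext i j
  (revert i j; simp only [up, _root_.Fin.forall_fin_succ, _root_.RingHom.mapMatrix_apply, _root_.Matrix.map_apply, _root_.Matrix.of_apply, _root_.Matrix.cons_val', _root_.Matrix.cons_val_fin_one, Fin.isValue, _root_.Matrix.cons_val_zero, _root_.Matrix.cons_val_succ, _root_.forall_const, _root_.map_one, _root_.and_self, _root_.map_zero, _root_.implies_true])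

theorem map_lo' (φ : K →+* K) (t : K) : SpecialLinearGroup.map φ (lo t) = lo (φ t) := by
  apply Subtype.ext
  show φ.mapMatrix (lo t).1 = (lo (φ t)).1
  ext i j
  (revert i j; simp only [lo, _root_.Fin.forall_fin_succ, _root_.RingHom.mapMatrix_apply, _root_.Matrix.map_apply, _root_.Matrix.of_apply, _root_.Matrix.cons_val', _root_.Matrix.cons_val_fin_one, Fin.isValue, _root_.Matrix.cons_val_zero, _root_.Matrix.cons_val_succ, _root_.forall_const, _root_.map_one, _root_.map_zero, _root_.and_self, _root_.implies_true])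

/-- `SL₂` of a simple root in `GL` -/
noncomputable def f (i : Fin 6) : _root_.Matrix.SpecialLinearGroup (Fin 2) K →* GL chevE6.Idx K :=
  SL2Hom.phi (goodS hp i) K

theorem f_up (i : Fin 6) (t : K) : f i (up t) = xG hE6 (chevE6.simple i) t :=
  Units.ext (SL2Hom.phi_upper _ _ t rfl)

theorem f_lo (i : Fin 6) (t : K) : f i (lo t) = xG hE6 (chevE6.neg (chevE6.simple i)) t :=
  Units.ext (SL2Hom.phi_lower _ _ t rfl)

theorem f_comm {i j : Fin 6} (h : chkC chevE6 i j = true) : ∀ x ∈ (f (K := K) i).range, ∀ y ∈ (f (K := K) j).range,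
    x * y = y * x := by
  refine commute_ranges (fun t u => ?_) (fun t u => ?_) (fun t u => ?_) (fun t u => ?_)
  · rw [f_up, f_up]; exact (commute_four hp K h t u).1
  · rw [f_up, f_lo]; exact (commute_four hp K h t u).2.1
  · rw [f_lo, f_up]; exact (commute_four hp K h t u).2.2.1
  · rw [f_lo, f_lo]; exact (commute_four hp K h t u).2.2.2

theorem f_ker (i : Fin 6) (g : _root_.Matrix.SpecialLinearGroup (Fin 2) K) (hg : f i g = 1) : g = 1 ∨ g = -1 := phi_eq_one _ hg

/-- the homomorphism of the short node `{p₁, p₆}` -/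
noncomputable def fB (φ : K →+* K) : _root_.Matrix.SpecialLinearGroup (Fin 2) K →* GL chevE6.Idx K :=
  MonoidHom.mk' (fun g => f 0 g * f 5 (SpecialLinearGroup.map φ g)) fun a b => by
    rw [map_mul, map_mul, map_mul, mul_assoc, mul_assoc, ← mul_assoc (f 0 b),
      f_comm (by exact chk05) (f 0 b) ⟨b, rfl⟩ ((f 5 (SpecialLinearGroup.map φ a) :)) ⟨_, rfl⟩, mul_assoc]

theorem fB_apply (φ : K →+* K) (g : _root_.Matrix.SpecialLinearGroup (Fin 2) K) : fB φ g = f 0 g * f 5 (SpecialLinearGroup.map φ g) := rfl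

theorem fB_ker (φ : K →+* K) (h2 : (2 : K) ≠ 0) (g : _root_.Matrix.SpecialLinearGroup (Fin 2) K) (hg : fB φ g = 1) : g = 1 ∨ g = -1 := by
  have : NeZero (2 : K) := ⟨h2⟩
  rw [fB_apply] at hg
  have h1 : f 0 g = (f 5 (SpecialLinearGroup.map φ g))⁻¹ := eq_inv_of_mul_eq_one_left hg
  obtain ⟨g', h3, h4⟩ := sq_of_central (φ := f (K := K) 0) (f_ker 0) (x := f 0 g) ⟨g, rfl⟩ (by
    intro y hy
    rw [h1]
    have h5 : (f (K := K) 5 (SpecialLinearGroup.map φ g))⁻¹ ∈ (f (K := K) 5).range := inv_mem ⟨_, rfl⟩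
    exact (f_comm (by exact chk05) y hy _ h5).symm)
  have h6 : f 0 (g'⁻¹ * g) = 1 := by rw [map_mul, map_inv, h3, inv_mul_cancel]
  rcases f_ker 0 _ h6 with h7 | h7
  · rw [inv_mul_eq_one] at h7
    rw [← h7]; exact h4
  · rw [inv_mul_eq_iff_eq_mul] at h7
    rw [h7]
    rcases h4 with rfl | rfl
    · right; rw [one_mul]
    · left; rw [neg_mul_neg, one_mul]

variable {q : ℕ} {φ : K →+* K}

theorem fA_mem (hφ : ∀ x, φ x = x ^ q) : (psi0 (hp := hp) 1 φ).range ≤ twistedE6 K q := by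
  refine range_le (fun t => ?_) (fun t => ?_)
  · rw [psi0_up]
    show xG hE6 (chevE6.simple 1) (t : K) ∈ _
    rw [simple_E6.1]
    exact single_mem ((hφ _).symm.trans (mem_FF.1 t.2)) (by simp)
  · rw [psi0_lo]
    show xG hE6 (chevE6.neg (chevE6.simple 1)) (t : K) ∈ _
    rw [simple_E6.1, simple_E6.2.1]
    exact single_mem ((hφ _).symm.trans (mem_FF.1 t.2)) (by simp)

theorem fB_up (φ : K →+* K) (t : K) : fB φ (up t) = xG hE6 56 t * xG hE6 36 (φ t) := by
  rw [fB_apply, map_up', f_up, f_up]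
  show xG hE6 (chevE6.simple 0) t * xG hE6 (chevE6.simple 5) (φ t) = _
  rw [simple_E6.2.2.1, simple_E6.2.2.2.2.1]

theorem fB_lo (φ : K →+* K) (t : K) : fB φ (lo t) = xG hE6 15 t * xG hE6 35 (φ t) := by
  rw [fB_apply, map_lo', f_lo, f_lo]
  show xG hE6 (chevE6.neg (chevE6.simple 0)) t * xG hE6 (chevE6.neg (chevE6.simple 5)) (φ t) = _
  rw [simple_E6.2.2.1, simple_E6.2.2.2.2.1, simple_E6.2.2.2.1, simple_E6.2.2.2.2.2]

theorem fB_mem (hφ : ∀ x, φ x = x ^ q) : (fB φ).range ≤ twistedE6 K q := by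
  refine range_le (fun t => ?_) (fun t => ?_)
  · rw [fB_up, hφ]
    exact pair_mem (rs := (56, 36)) t (by simp)
  · rw [fB_lo, hφ]
    exact pair_mem (rs := (15, 35)) t (by simp)

theorem fAB_comm (φ : K →+* K) : ∀ x ∈ (psi0 (hp := hp) 1 φ).range, ∀ y ∈ (fB φ).range, x * y = y * x := by
  rintro _ ⟨g, rfl⟩ _ ⟨g', rfl⟩
  rw [fB_apply]
  have h1 : psi0 (hp := hp) 1 φ g = f 1 (SpecialLinearGroup.map (FF φ).subtype g) := rfl
  have h2 := f_comm (K := K) chk10 ((f 1 (SpecialLinearGroup.map (FF φ).subtype g) :)) ⟨_, rfl⟩ (f 0 g') ⟨_, rfl⟩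
  have h3 := f_comm (K := K) chk15 ((f 1 (SpecialLinearGroup.map (FF φ).subtype g) :)) ⟨_, rfl⟩
    ((f 5 (SpecialLinearGroup.map φ g') :)) ⟨_, rfl⟩
  rw [h1, ← mul_assoc, h2, mul_assoc, h3, mul_assoc]

theorem fA_ker (φ : K →+* K) (g : _root_.Matrix.SpecialLinearGroup (Fin 2) (FF φ)) (hg : psi0 (hp := hp) 1 φ g = 1) :
    g = 1 ∨ g = -1 := by
  have h1 : f 1 (SpecialLinearGroup.map (FF φ).subtype g) = 1 := hg
  have hinj : Function.Injective (SpecialLinearGroup.map (n := Fin 2) (FF φ).subtype) := by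
    intro a b hab
    apply Subtype.ext
    ext i j
    have := congrFun (congrFun (congrArg Subtype.val hab) i) j
    exact this
  rcases f_ker 1 _ h1 with h2 | h2
  · left
    apply hinj
    rw [h2, map_one]
  · right
    apply hinj
    rw [h2]
    apply Subtype.ext
    ext i j
    (revert i j; simp only [_root_.Fin.forall_fin_succ, _root_.Matrix.SpecialLinearGroup.coe_neg, _root_.Matrix.SpecialLinearGroup.coe_one, _root_.Matrix.neg_apply, _root_.Matrix.SpecialLinearGroup.map_apply_coe, _root_.RingHom.mapMatrix_apply, _root_.Subfield.coe_subtype, _root_.Matrix.map_apply, _root_.NegMemClass.coe_neg, _root_.neg_inj, _root_.IsEmpty.forall_iff, _root_.and_true, _root_.Matrix.one_apply_eq, _root_.OneMemClass.coe_one, Nat.reduceAdd, Fin.isValue, _root_.Fin.succ_zero_eq_one, _root_.ne_eq, _root_.zero_ne_one, _root_.not_false_eq_true, _root_.Matrix.one_apply_ne, _root_.ZeroMemClass.coe_zero, _root_.and_self, _root_.Fin.succ_ne_zero, _root_.true_and])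

/-- **`²E₆(q)`.** -/
theorem twE6 [Fintype K] {r : ℕ} [CharP K r] {q : ℕ} (hqq' : IsPrimePow q) (ho : Odd q)
    (hK : Fintype.card K = q ^ 2) {p : ℕ} (hpp : p.Prime) (hp2 : p ≠ 2) (hd : p ∣ q ^ 2 - 1) :
    HasPair r p ↥(twistedE6 K q) := by
  classical
  obtain ⟨φ, hφ, hqq⟩ := exists_frob hqq' hK
  have hrp : r.Prime := (CharP.char_is_prime_or_zero K r).resolve_right (CharP.char_ne_zero_of_finite K r)
  have : Fact r.Prime := ⟨hrp⟩
  have hKo : Odd (Fintype.card K) := by rw [hK]; exact ho.pow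
  have h2K : (2 : K) ≠ 0 := two_ne_of_odd hKo
  have h2F : (2 : FF φ) ≠ 0 := fun h0 => h2K (congrArg Subtype.val h0)
  let cs := CoxeterMatrix.F₄.toCoxeterSystem
  have hfin : Finite CoxeterMatrix.F₄.Group :=
    Cfsg.Agent.Nodes.RGDFold.finite_W (hp := hp) cs Cfsg.Agent.Nodes.RGDTwE6.isCartan Cfsg.Agent.Nodes.RGDTwE6.foldData
  have hR := Cfsg.Agent.Nodes.RGDTwE6.rgd cs hφ hqq r
  have hfinF : Fintype (FF φ) := Fintype.ofFinite _
  have hc : Fintype.card (FF φ) = q := Tw.card_FF hqq'.two_le hK hφ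
  have hfix := twisted_le_fix φ hφ hqq
  let A : _root_.Matrix.SpecialLinearGroup (Fin 2) (FF φ) →* ↥(twistedE6 K q) :=
    (psi0 (hp := hp) 1 φ).codRestrict _ (fun g => fA_mem hφ ⟨g, rfl⟩)
  let B : _root_.Matrix.SpecialLinearGroup (Fin 2) K →* ↥(twistedE6 K q) := (fB φ).codRestrict _ (fun g => fB_mem hφ ⟨g, rfl⟩)
  have hA : ∀ g, (A g : GL chevE6.Idx K) = psi0 (hp := hp) 1 φ g := fun g => rfl
  have hB : ∀ g, (B g : GL chevE6.Idx K) = fB φ g := fun g => rfl
  have hX : ∀ (z : Fin 4 → ℤ) (u : ↥(twistedE6 K q)), u ∈ Cfsg.Agent.Nodes.RGDTwE6.X φ q z ↔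
      (u : GL chevE6.Idx K) ∈ Cfsg.Agent.Nodes.RGDFold.R chevE6 hp K Cfsg.Agent.Nodes.RGDTwE6.J (sg φ) z :=
    fun _ _ => Iff.rfl
  refine hasPair_of_two hR (by rw [Fintype.card_fin]; norm_num) (isRoot_sr cs _ 0) (isRoot_sr cs _ 3) h2F (φ := A) (ψ := B)
    (fun g hg => fA_ker φ g (congrArg Subtype.val hg)) (fun g hg => fB_ker φ h2K g (congrArg Subtype.val hg))
    (fun t => ?_) (fun t => ?_) (fun t => ?_) (fun t => ?_) ?_ hpp hp2 (by rw [hc]; exact hd) ?_
  · rw [hX, Cfsg.Agent.Nodes.RGDTwE6.R_pos]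
    refine ⟨?_, hfix (A (up t)).2⟩
    rw [hA, psi0_up]
    show xG hE6 (chevE6.simple 1) (t : K) ∈ _
    rw [simple_E6.1]
    exact x_mem_rs (by decide +kernel) _
  · rw [hX, Cfsg.Agent.Nodes.RGDTwE6.R_neg]
    refine ⟨?_, hfix (A (lo t)).2⟩
    rw [hA, psi0_lo]
    show xG hE6 (chevE6.neg (chevE6.simple 1)) (t : K) ∈ _
    rw [simple_E6.1, simple_E6.2.1]
    exact x_mem_rs (by decide +kernel) _
  · rw [hX, Cfsg.Agent.Nodes.RGDTwE6.R_pos]
    refine ⟨?_, hfix (B (up t)).2⟩
    rw [hB, fB_up]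
    exact mul_mem (x_mem_rs (by decide +kernel) _) (x_mem_rs (by decide +kernel) _)
  · rw [hX, Cfsg.Agent.Nodes.RGDTwE6.R_neg]
    refine ⟨?_, hfix (B (lo t)).2⟩
    rw [hB, fB_lo]
    exact mul_mem (x_mem_rs (by decide +kernel) _) (x_mem_rs (by decide +kernel) _)
  · rintro _ ⟨g, rfl⟩ _ ⟨g', rfl⟩
    apply Subtype.ext
    exact fAB_comm φ _ ⟨g, rfl⟩ _ ⟨g', rfl⟩
  · rw [hK]
    refine hd.trans ?_
    have h3 := Nat.sub_dvd_pow_sub_pow (q ^ 2) 1 2
    rwa [one_pow] at h3

end TwE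

end Cfsg.Agent.H609.PairExc

private theorem dce_66725f824b51 : _root_.True := by
  try have : _root_.True := by simp only [_root_.Cfsg.Agent.H609.PairExc.chkC.eq_1]
  exact _root_.True.intro
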