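import Cfsg.Agent.H232.RowTools_m3
import Cfsg.Agent.UGT.I34.OnCode_m3
import Cfsg.Agent.Cit.LongSp
import Cfsg.Agent.FastGrp
import Cfsg.Agent.Prune
set_option linter.all false
prune_inst 0x7f00000000000000000000000000000000000000000000000000000000000000000000000000000000000000000000000000000000000000000000000000000000000000000000000000000000000000003fffffffffffffffffffffffffffbeffbdffffffff
open scoped Cfsg.Agent.FastGrp

/-!
# Commuting pairs (`HasPair`) in `PSp_{2m}(q)`, `m ≥ 3`, and `PSU_n(q)`, `n ≥ 4`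
-/

set_option autoImplicit false
set_option linter.unusedSectionVars false

namespace Cfsg.Agent.H609.PairMat

open Subgroup Matrix Cfsg
open Cfsg.Agent.ChevalleyStructure.SL2Hom (up lo)
open Cfsg.Agent.H233.T (HasPair)
open Cfsg.Agent.H609.PairAbs

/-! ### The unipotent subgroup -/

section Unip

variable {K : Type*} [Field K] {Y : Type*} [Group Y]

theorem up_mul (s t : K) : up s * up t = up (s + t) := by
  apply Subtype.ext
  show !![1, s; 0, 1] * !![1, t; 0, 1] = (!![1, s + t; 0, 1] : Matrix (Fin 2) (Fin 2) K)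
  ext i j
  (revert i j; simp only [Matrix.mul_apply, Fin.sum_univ_two, add_comm, _root_.Fin.forall_fin_succ, _root_.Matrix.of_apply, _root_.Matrix.cons_val', _root_.Matrix.cons_val_fin_one, Fin.isValue, _root_.Matrix.cons_val_zero, _root_.Matrix.cons_val_one, _root_.mul_one, _root_.MulZeroClass.mul_zero, _root_.zero_add, _root_.Matrix.cons_val_succ, _root_.forall_const, _root_.true_and, _root_.one_mul, _root_.MulZeroClass.zero_mul, _root_.implies_true, _root_.and_self])

theorem up_zero : (up (0 : K)) = 1 := by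
  apply Subtype.ext
  show !![1, 0; 0, 1] = (1 : Matrix (Fin 2) (Fin 2) K)
  rw [Matrix.one_fin_two]

theorem up_one_ne : (up (1 : K)) ≠ 1 := by
  intro h
  have := congrFun (congrFun (congrArg Subtype.val h) 0) 1
  simp [up] at this

/-- the unipotent homomorphism -/
def upHom : Multiplicative K →* _root_.Matrix.SpecialLinearGroup (Fin 2) K where
  toFun x := up (Multiplicative.toAdd x)
  map_one' := up_zero
  map_mul' _ _ := (up_mul _ _).symm

theorem isPGroup_range {r : ℕ} [Fact r.Prime] [CharP K r] (ψ : _root_.Matrix.SpecialLinearGroup (Fin 2) K →* Y) :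
    IsPGroup r ↥(ψ.comp upHom).range := by
  rintro ⟨_, x, rfl⟩
  refine ⟨1, Subtype.ext ?_⟩
  show (ψ (up (Multiplicative.toAdd x))) ^ r ^ 1 = 1
  have h1 : ∀ (n : ℕ) (s : K), up s ^ n = up (n * s) := by
    intro n s
    induction n with
    | zero => rw [pow_zero, Nat.cast_zero, zero_mul, up_zero]
    | succ n ih => rw [pow_succ, ih, up_mul]; congr 1; push_cast; ring
  rw [pow_one, ← map_pow, h1, CharP.cast_eq_zero K r, zero_mul, up_zero, map_one]

/-- the torus of `SL₂` -/
def tor : Kˣ →* _root_.Matrix.SpecialLinearGroup (Fin 2) K :=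
  MonoidHom.mk' (fun s => ⟨!![(s : K), 0; 0, ((s⁻¹ : Kˣ) : K)], by rw [det_fin_two_of]; simp⟩) fun a b => by
    apply Subtype.ext
    show _ = !![(a : K), 0; 0, ((a⁻¹ : Kˣ) : K)] * !![(b : K), 0; 0, ((b⁻¹ : Kˣ) : K)]
    ext i j
    (revert i j; simp only [Matrix.mul_apply, Fin.sum_univ_two, mul_comm, _root_.Fin.forall_fin_succ, _root_.Units.val_mul, _root_.mul_inv_rev, _root_.Units.val_inv_eq_inv_val, _root_.Matrix.of_apply, _root_.Matrix.cons_val', _root_.Matrix.cons_val_fin_one, Fin.isValue, _root_.Matrix.cons_val_zero, _root_.Matrix.cons_val_one, _root_.MulZeroClass.zero_mul, _root_.add_zero, _root_.Matrix.cons_val_succ, _root_.zero_add, _root_.forall_const, _root_.MulZeroClass.mul_zero, _root_.and_self, _root_.implies_true])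

theorem tor_injective : Function.Injective (tor (K := K)) := by
  intro a b hab
  have h4 : (a : K) = b := congrFun (congrFun (congrArg Subtype.val hab) 0) 0
  exact Units.ext h4

theorem tor_up (s : Kˣ) (x : K) : tor s * up x = up ((s : K) ^ 2 * x) * tor s := by
  apply Subtype.ext
  show !![(s : K), 0; 0, ((s⁻¹ : Kˣ) : K)] * !![1, x; 0, 1] =
    !![1, (s : K) ^ 2 * x; 0, 1] * !![(s : K), 0; 0, ((s⁻¹ : Kˣ) : K)]
  ext i j
  (revert i j; simp only [Matrix.mul_apply, Fin.sum_univ_two, _root_.Fin.forall_fin_succ, _root_.Units.val_inv_eq_inv_val, _root_.Matrix.of_apply, _root_.Matrix.cons_val', _root_.Matrix.cons_val_fin_one, Fin.isValue, _root_.Matrix.cons_val_zero, _root_.Matrix.cons_val_one, _root_.mul_one, _root_.MulZeroClass.mul_zero, _root_.add_zero, _root_.Matrix.cons_val_succ, _root_.zero_add, _root_.forall_const, _root_.one_mul, _root_.MulZeroClass.zero_mul, _root_.implies_true, _root_.and_true, _root_.true_and]) <;> (repeat' with_reducible apply And.intro)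
  field_simp

theorem tor_mem (ψ : _root_.Matrix.SpecialLinearGroup (Fin 2) K →* Y) (t : Kˣ) :
    ψ (tor t) ∈ normalizer ((ψ.comp upHom).range : Set Y) := by
  have key : ∀ (s : Kˣ), ∀ h ∈ (ψ.comp upHom).range, ψ (tor s) * h * (ψ (tor s))⁻¹ ∈ (ψ.comp upHom).range := by
    rintro s _ ⟨x, rfl⟩
    refine ⟨Multiplicative.ofAdd ((s : K) ^ 2 * Multiplicative.toAdd x), ?_⟩
    show ψ (up ((s : K) ^ 2 * Multiplicative.toAdd x)) = ψ (tor s) * ψ (up (Multiplicative.toAdd x)) * (ψ (tor s))⁻¹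
    rw [eq_mul_inv_iff_mul_eq, ← map_mul, ← map_mul, tor_up]
  rw [mem_normalizer_iff]
  intro h
  refine ⟨key t h, fun h5 => ?_⟩
  have h6 := key t⁻¹ _ h5
  rw [map_inv, map_inv] at h6
  have h7 : (ψ (tor t))⁻¹ * (ψ (tor t) * h * (ψ (tor t))⁻¹) * (ψ (tor t))⁻¹⁻¹ = h := by group
  rwa [h7] at h6

/-- **The general form.** -/
theorem hasPair_of_unip [Finite Y] {r : ℕ} [Fact r.Prime] {K₁ K₂ : Type*} [Field K₁] [Fintype K₁] [Field K₂] [CharP K₂ r]
    (h2 : (2 : K₁) ≠ 0) {φ : _root_.Matrix.SpecialLinearGroup (Fin 2) K₁ →* Y} {ψ : _root_.Matrix.SpecialLinearGroup (Fin 2) K₂ →* Y}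
    (hkφ : ∀ g, φ g = 1 → g = 1 ∨ g = -1) (hψ : ψ (up 1) ≠ 1) {B : Subgroup Y}
    (hφψ : ∀ x ∈ φ.range, ∀ y ∈ ψ.range, x * y = y * x) (hφB : ∀ x ∈ φ.range, ∀ y ∈ B, x * y = y * x)
    {p : ℕ} (hp : p.Prime) (hp2 : p ≠ 2) (hd : p ∣ Fintype.card K₁ ^ 2 - 1) (hB : p ∣ Nat.card B)
    (hBK : B ≤ normalizer ((ψ.comp upHom).range : Set Y)) : HasPair r p Y := by
  have : NeZero (2 : K₁) := ⟨h2⟩
  refine ⟨φ.range, B, (ψ.comp upHom).range, hφB, dvd_range hkφ hp hp2 hd, hB, not_dvd_inf hkφ hφB hp hp2,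
    isPGroup_range ψ, ?_, ?_, hBK⟩
  · intro h0
    apply hψ
    rw [← Subgroup.mem_bot, ← h0]
    exact ⟨Multiplicative.ofAdd 1, rfl⟩
  · intro x hx
    refine Subgroup.centralizer_le_normalizer _ ?_
    rw [Subgroup.mem_centralizer_iff]
    rintro _ ⟨y, rfl⟩
    exact (hφψ x hx _ ⟨upHom y, rfl⟩).symm

theorem le_normalizer_of_comm {ψ : _root_.Matrix.SpecialLinearGroup (Fin 2) K →* Y} {B : Subgroup Y}
    (h : ∀ x ∈ B, ∀ y ∈ ψ.range, x * y = y * x) : B ≤ normalizer ((ψ.comp upHom).range : Set Y) := by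
  intro x hx
  refine Subgroup.centralizer_le_normalizer _ ?_
  rw [Subgroup.mem_centralizer_iff]
  rintro _ ⟨y, rfl⟩
  exact (h x hx _ ⟨upHom y, rfl⟩).symm

end Unip

/-! ### `PSp` -/

section Sp

open Cfsg.Agent.ClassicalGeometry.SympBasic Cfsg.Agent.ClassicalGeometry.SympAutSemi
open Cfsg.Agent.UGT.U2.FOne.PSpJ

variable {F : Type*} [Field F] {m : ℕ}

local notation "f" => sympForm m F

theorem act_comm {u w u' w' : Fin m ⊕ Fin m → F} (h1 : f u u' = 0) (h2 : f u w' = 0) (h3 : f w u' = 0) (h4 : f w w' = 0)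
    (M N : Matrix (Fin 2) (Fin 2) F) (v : Fin m ⊕ Fin m → F) :
    act u w M (act u' w' N v) = act u' w' N (act u w M v) := by
  have h1' : f u' u = 0 := by rw [sympForm_swap, h1, neg_zero]
  have h2' : f w' u = 0 := by rw [sympForm_swap, h2, neg_zero]
  have h3' : f u' w = 0 := by rw [sympForm_swap, h3, neg_zero]
  have h4' : f w' w = 0 := by rw [sympForm_swap, h4, neg_zero]
  rw [act_def M, act_def N v, act_def N (act u w M v), act_def M]
  simp only [sympForm_add_left, sympForm_add_right, sympForm_smul_left, sympForm_smul_right, h1, h2, h4, h1',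
    h3', h4', mul_zero, add_zero]
  abel

/-- the hyperbolic pairs -/
def uu (i : Fin m) : Fin m ⊕ Fin m → F := Pi.single (Sum.inr i) 1

/-- the hyperbolic pairs -/
def ww (i : Fin m) : Fin m ⊕ Fin m → F := Pi.single (Sum.inl i) 1

theorem f_uw (i : Fin m) : f (uu i) (ww i) = 1 := by
  rw [sympForm_eq_sum, Finset.sum_eq_single i]
  · simp [uu, ww]
  · intro j _ hj
    simp [uu, ww, Pi.single_apply, hj]
  · intro h; exact absurd (Finset.mem_univ i) h

theorem f_uu (i j : Fin m) : f (uu i) (uu j) = 0 := by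
  rw [sympForm_eq_sum]
  exact Finset.sum_eq_zero fun k _ => by simp [uu]

theorem f_ww (i j : Fin m) : f (ww i) (ww j) = 0 := by
  rw [sympForm_eq_sum]
  exact Finset.sum_eq_zero fun k _ => by simp [ww]

theorem f_uw_ne {i j : Fin m} (h : i ≠ j) : f (uu i) (ww j) = 0 := by
  rw [sympForm_eq_sum]
  refine Finset.sum_eq_zero fun k _ => ?_
  by_cases hk : k = i
  · subst hk
    simp [uu, ww, Pi.single_apply, h]
  · simp [uu, ww, Pi.single_apply, hk]

theorem f_wu_ne {i j : Fin m} (h : i ≠ j) : f (ww i) (uu j) = 0 := by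
  rw [sympForm_swap, f_uw_ne h.symm, neg_zero]

/-- `SL₂` of the `i`-th plane -/
noncomputable def sl (i : Fin m) : _root_.Matrix.SpecialLinearGroup (Fin 2) F →* PSp m F :=
  (QuotientGroup.mk' (Subgroup.center (Matrix.symplecticGroup (Fin m) F))).comp (phi (f_uw i))

theorem sl_injective (hm : 2 ≤ m) (i : Fin m) : Function.Injective (sl (F := F) i) := comp_injective hm (f_uw i)

theorem sl_comm {i j : Fin m} (h : i ≠ j) : ∀ x ∈ (sl (F := F) i).range, ∀ y ∈ (sl (F := F) j).range, x * y = y * x := by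
  rintro _ ⟨M, rfl⟩ _ ⟨N, rfl⟩
  have h1 : phi (f_uw i) M * phi (f_uw j) N = phi (f_uw j) N * phi (f_uw i) M := by
    apply rho_injective
    ext1 v
    rw [map_mul, map_mul, Equiv.Perm.mul_apply, Equiv.Perm.mul_apply, rho_phi, rho_phi, rho_phi, rho_phi]
    exact act_comm (f_uu i j) (f_uw_ne h) (f_wu_ne h) (f_ww i j) _ _ v
  exact congrArg (QuotientGroup.mk' (Subgroup.center (Matrix.symplecticGroup (Fin m) F))) h1

/-- **`PSp_{2m}(q)`, `m ≥ 3`.** -/
theorem psp [Fintype F] {r : ℕ} [CharP F r] (hr2 : r ≠ 2) (hm : 3 ≤ m) {p : ℕ} (hp : p.Prime) (hp2 : p ≠ 2)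
    (hd : p ∣ Fintype.card F ^ 2 - 1) : HasPair r p (PSp m F) := by
  have : Fact r.Prime := ⟨CharP.char_is_prime F r⟩
  have h2 : (2 : F) ≠ 0 := Ring.two_ne_zero (by rwa [ringChar.eq F r])
  have h01 : (⟨0, by omega⟩ : Fin m) ≠ ⟨1, by omega⟩ := by simp
  have h02 : (⟨0, by omega⟩ : Fin m) ≠ ⟨2, by omega⟩ := by simp
  have h12 : (⟨1, by omega⟩ : Fin m) ≠ ⟨2, by omega⟩ := by simp
  have hk : ∀ (i : Fin m) (g : _root_.Matrix.SpecialLinearGroup (Fin 2) F), sl i g = 1 → g = 1 ∨ g = -1 := fun i g hg =>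
    Or.inl (sl_injective (by omega) i (hg.trans (map_one _).symm))
  exact hasPair_of_unip (φ := sl (F := F) ⟨0, by omega⟩) (ψ := sl (F := F) ⟨2, by omega⟩) h2 (hk _)
    (fun h0 => up_one_ne (sl_injective (by omega) _ (h0.trans (map_one _).symm)))
    (B := (sl (F := F) ⟨1, by omega⟩).range) (sl_comm h02) (sl_comm h01) hp hp2 hd (dvd_range (hk _) hp hp2 hd)
    (le_normalizer_of_comm (sl_comm h12))

end Sp

/-! ### `PSU` -/

section SU

open Cfsg.Agent.Cit.LongInst Cfsg.Agent.Cit.LongModel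

variable {F : Type*} [Field F] [Fintype F] {q : ℕ} (hF : Fintype.card F = q ^ 2) (k : ℕ)

/-- the index set -/
abbrev Ix : Type := Fin 2 ⊕ (Fin 2 ⊕ Fin k)

/-- the index equivalence -/
def e3 : Fin (2 + (2 + k)) ≃ Ix k := finSumFinEquiv.symm.trans (Equiv.sumCongr (Equiv.refl _) finSumFinEquiv.symm)

variable {k}

/-- the element of `SU` with a given matrix -/
def mk (M : Matrix (Ix k) (Ix k) F) (h : Cond {cj hF} M) : SU (2 + (2 + k)) F q :=
  ⟨⟨M.submatrix (e3 k) (e3 k), by rw [det_submatrix_equiv_self]; exact h.1⟩,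
    (su_cond hF _).2 ((cond_reindex (e3 k).symm).2 h)⟩

theorem mk_mul (M N : Matrix (Ix k) (Ix k) F) (h : Cond {cj hF} M) (h' : Cond {cj hF} N) (h'' : Cond {cj hF} (M * N)) :
    mk hF M h * mk hF N h' = mk hF (M * N) h'' := by
  apply Subtype.ext
  apply Subtype.ext
  show M.submatrix (e3 k) (e3 k) * N.submatrix (e3 k) (e3 k) = (M * N).submatrix (e3 k) (e3 k)
  rw [submatrix_mul_equiv]

theorem mk_comm {M N : Matrix (Ix k) (Ix k) F} (h : Cond {cj hF} M) (h' : Cond {cj hF} N) (e : M * N = N * M) :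
    mk hF M h * mk hF N h' = mk hF N h' * mk hF M h := by
  rw [mk_mul hF M N h h' (h.mul h'), mk_mul hF N M h' h (h'.mul h)]
  congr 1

theorem mk_eq_iff {M N : Matrix (Ix k) (Ix k) F} {h : Cond {cj hF} M} {h' : Cond {cj hF} N} :
    mk hF M h = mk hF N h' ↔ M = N := by
  constructor
  · intro e
    have h1 : M.submatrix (e3 k) (e3 k) = N.submatrix (e3 k) (e3 k) := congrArg (fun g => g.1.1) e
    have h2 := congrArg (fun A => A.submatrix (e3 k).symm (e3 k).symm) h1
    simpa using h2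
  · rintro rfl
    rfl

/-- an element of the centre is scalar -/
theorem scalar_of_mk {M : Matrix (Ix k) (Ix k) F} {h : Cond {cj hF} M}
    (hc : (mk hF M h : SU (2 + (2 + k)) F q) ∈ center (SU (2 + (2 + k)) F q)) : ∃ c : F, M = c • 1 := by
  obtain ⟨c, h1⟩ := su_cen hF (n := 2 + (2 + k)) (by omega) _ hc
  refine ⟨c, ?_⟩
  have h2 : M.submatrix (e3 k) (e3 k) = c • 1 := h1
  have h3 := congrArg (fun A => A.submatrix (e3 k).symm (e3 k).symm) h2
  have h4 : M = (c • (1 : Matrix (Fin (2 + (2 + k))) (Fin (2 + (2 + k))) F)).submatrix (e3 k).symm (e3 k).symm := by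
    simpa using h3
  rw [h4]
  ext i j
  simp [Matrix.one_apply]

/-- the equivalence `SL₂(q) ≃ SU₂(q)` -/
noncomputable def e2 : _root_.Matrix.SpecialLinearGroup (Fin 2) (KK hF) ≃* Un ({cj hF} : Set (F →+* F)) (Fin 2) :=
  (un2_equiv hF).some.symm

theorem cond_un (g : Un ({cj hF} : Set (F →+* F)) (Fin 2)) : Cond {cj hF} g.1.1 := g.2

variable (k)

/-- the first block -/
noncomputable def blA : _root_.Matrix.SpecialLinearGroup (Fin 2) (KK hF) →* SU (2 + (2 + k)) F q :=
  MonoidHom.mk' (fun g => mk hF (fromBlocks (e2 hF g).1.1 0 0 (1 : Matrix (Fin 2 ⊕ Fin k) (Fin 2 ⊕ Fin k) F))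
    ((cond_un hF _).fromBlocks (Cond.one _))) fun a b => by
      rw [mk_mul hF _ _ _ _ (((cond_un hF _).fromBlocks (Cond.one _)).mul ((cond_un hF _).fromBlocks (Cond.one _))),
        mk_eq_iff, fromBlocks_multiply, map_mul]
      simp only [_root_.Subgroup.coe_mul, _root_.Matrix.SpecialLinearGroup.coe_mul, _root_.Matrix.mul_zero, _root_.add_zero, _root_.Matrix.mul_one, _root_.Matrix.zero_mul, _root_.mul_one, _root_.zero_add]

/-- the second block -/
noncomputable def blC : _root_.Matrix.SpecialLinearGroup (Fin 2) (KK hF) →* SU (2 + (2 + k)) F q :=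
  MonoidHom.mk' (fun g => mk hF (fromBlocks (1 : Matrix (Fin 2) (Fin 2) F) 0 0
    (fromBlocks (e2 hF g).1.1 0 0 (1 : Matrix (Fin k) (Fin k) F)))
    ((Cond.one _).fromBlocks ((cond_un hF _).fromBlocks (Cond.one _)))) fun a b => by
      rw [mk_mul hF _ _ _ _ (((Cond.one _).fromBlocks ((cond_un hF _).fromBlocks (Cond.one _))).mul
        ((Cond.one _).fromBlocks ((cond_un hF _).fromBlocks (Cond.one _)))),
        mk_eq_iff, fromBlocks_multiply, fromBlocks_multiply, map_mul]
      simp only [_root_.Subgroup.coe_mul, _root_.Matrix.SpecialLinearGroup.coe_mul, _root_.mul_one, _root_.Matrix.mul_zero, _root_.add_zero, _root_.Matrix.zero_mul, _root_.Matrix.mul_one, _root_.zero_add]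

variable {k}

theorem blA_apply (g : _root_.Matrix.SpecialLinearGroup (Fin 2) (KK hF)) : blA hF k g =
    mk hF (fromBlocks (e2 hF g).1.1 0 0 (1 : Matrix (Fin 2 ⊕ Fin k) (Fin 2 ⊕ Fin k) F))
      ((cond_un hF _).fromBlocks (Cond.one _)) := rfl

theorem blC_apply (g : _root_.Matrix.SpecialLinearGroup (Fin 2) (KK hF)) : blC hF k g =
    mk hF (fromBlocks (1 : Matrix (Fin 2) (Fin 2) F) 0 0 (fromBlocks (e2 hF g).1.1 0 0 (1 : Matrix (Fin k) (Fin k) F)))
      ((Cond.one _).fromBlocks ((cond_un hF _).fromBlocks (Cond.one _))) := rfl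

/-- the projection -/
abbrev pr (k : ℕ) (F : Type*) [Field F] (q : ℕ) : SU (2 + (2 + k)) F q →* PSU (2 + (2 + k)) F q := QuotientGroup.mk' _

theorem inj_A : Function.Injective ((pr k F q).comp (blA hF k)) := by
  rw [injective_iff_map_eq_one]
  intro g hg
  have h1 : blA hF k g ∈ center (SU (2 + (2 + k)) F q) := (QuotientGroup.eq_one_iff _).1 hg
  rw [blA_apply] at h1
  obtain ⟨c, h2⟩ := scalar_of_mk hF h1
  have h3 := congrFun (congrFun h2 (Sum.inr (Sum.inl 0))) (Sum.inr (Sum.inl 0))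
  have hc : c = 1 := by simpa using h3.symm
  have h4 : (e2 hF g).1.1 = 1 := by
    have h5 := congrArg toBlocks₁₁ h2
    rw [toBlocks_fromBlocks₁₁, hc, one_smul, ← fromBlocks_one, toBlocks_fromBlocks₁₁] at h5
    exact h5
  apply (e2 hF).injective
  rw [map_one]
  exact Subtype.ext (Subtype.ext h4)

theorem inj_C : Function.Injective ((pr k F q).comp (blC hF k)) := by
  rw [injective_iff_map_eq_one]
  intro g hg
  have h1 : blC hF k g ∈ center (SU (2 + (2 + k)) F q) := (QuotientGroup.eq_one_iff _).1 hg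
  rw [blC_apply] at h1
  obtain ⟨c, h2⟩ := scalar_of_mk hF h1
  have h3 := congrFun (congrFun h2 (Sum.inl 0)) (Sum.inl 0)
  have hc : c = 1 := by simpa using h3.symm
  have h4 : (e2 hF g).1.1 = 1 := by
    have h5 := congrArg toBlocks₁₁ (congrArg toBlocks₂₂ h2)
    rw [toBlocks_fromBlocks₂₂, toBlocks_fromBlocks₁₁, hc, one_smul, ← fromBlocks_one, toBlocks_fromBlocks₂₂,
      ← fromBlocks_one, toBlocks_fromBlocks₁₁] at h5
    exact h5
  apply (e2 hF).injective
  rw [map_one]
  exact Subtype.ext (Subtype.ext h4)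

theorem comm_AC : ∀ x ∈ ((pr k F q).comp (blA hF k)).range, ∀ y ∈ ((pr k F q).comp (blC hF k)).range,
    x * y = y * x := by
  rintro _ ⟨g, rfl⟩ _ ⟨g', rfl⟩
  have h1 : blA hF k g * blC hF k g' = blC hF k g' * blA hF k g := by
    rw [blA_apply, blC_apply]
    refine mk_comm hF _ _ ?_
    rw [fromBlocks_multiply, fromBlocks_multiply]
    simp only [_root_.mul_one, _root_.Matrix.mul_zero, _root_.add_zero, _root_.Matrix.zero_mul, _root_.Matrix.mul_one, _root_.one_mul, _root_.zero_add]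
  exact congrArg (pr k F q) h1

/-- the matrix `diag(β, β, β⁻¹, β⁻¹, 1, …)` -/
def dg (k : ℕ) (β : F) : Matrix (Ix k) (Ix k) F :=
  fromBlocks (β • (1 : Matrix (Fin 2) (Fin 2) F)) 0 0
    (fromBlocks (β⁻¹ • (1 : Matrix (Fin 2) (Fin 2) F)) 0 0 (1 : Matrix (Fin k) (Fin k) F))

theorem cond_dg {β : F} (hβ : β * β ^ q = 1) : Cond {cj hF} (dg k β) := by
  have h0 : β ≠ 0 := by rintro rfl; rw [zero_mul] at hβ; exact zero_ne_one hβ
  have hs : ∀ c : F, c * c ^ q = 1 → ((c • (1 : Matrix (Fin 2) (Fin 2) F))ᵀ * (c • (1 : Matrix (Fin 2) (Fin 2) F)).map (cj hF)) = 1 := by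
    intro c hc
    have hc' : c * cj hF c = 1 := hc
    ext i j
    fin_cases i <;> fin_cases j <;> simp [Matrix.mul_apply, Fin.sum_univ_two, hc']
  refine ⟨?_, ?_⟩
  · rw [dg, det_fromBlocks_zero₂₁, det_fromBlocks_zero₂₁, det_one, mul_one, det_smul, det_smul, det_one]
    simp [h0]
  · intro t ht
    rw [Set.mem_singleton_iff.1 ht, dg, fromBlocks_transpose, fromBlocks_map, fromBlocks_multiply, fromBlocks_transpose,
      fromBlocks_map, fromBlocks_multiply]
    simp only [transpose_zero, Matrix.map_zero (cj hF) (map_zero _), Matrix.mul_zero, Matrix.zero_mul, add_zero, zero_add,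
      transpose_one, Matrix.map_one (cj hF) (map_zero _) (map_one _), Matrix.mul_one]
    rw [hs β hβ, hs β⁻¹ (by rw [inv_pow, ← mul_inv, hβ, inv_one]), fromBlocks_one, fromBlocks_one]

theorem dg_comm (β : F) (A B : Matrix (Fin 2) (Fin 2) F) : fromBlocks A 0 0 (fromBlocks B 0 0 (1 : Matrix (Fin k) (Fin k) F)) *
    dg k β = dg k β * fromBlocks A 0 0 (fromBlocks B 0 0 (1 : Matrix (Fin k) (Fin k) F)) := by
  rw [dg, fromBlocks_multiply, fromBlocks_multiply, fromBlocks_multiply, fromBlocks_multiply]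
  simp only [_root_.Algebra.mul_smul_comm, _root_.mul_one, _root_.Matrix.mul_zero, _root_.add_zero, _root_.Matrix.zero_mul, _root_.Matrix.mul_smul, _root_.Matrix.mul_one, _root_.smul_zero, _root_.zero_add, _root_.Algebra.smul_mul_assoc, _root_.one_mul]

theorem dg_mul {a b : F} : dg k a * dg k b = dg k (a * b) := by
  rw [dg, dg, dg, fromBlocks_multiply, fromBlocks_multiply]
  simp only [smul_smul, mul_comm, _root_.Algebra.mul_smul_comm, _root_.mul_one, _root_.Matrix.mul_zero, _root_.add_zero, _root_.Matrix.zero_mul, _root_.Matrix.mul_smul, _root_.Matrix.mul_one, _root_.smul_zero, _root_.zero_add, _root_.mul_inv_rev]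

theorem dg_one : dg k (1 : F) = 1 := by
  rw [dg, inv_one, one_smul, fromBlocks_one, fromBlocks_one]

include hF in
/-- **`PSU_n(q)`, `n ≥ 4`.** -/
theorem psu_aux {r : ℕ} [CharP F r] (hr2 : r ≠ 2) {p : ℕ} (hp : p.Prime) (hp2 : p ≠ 2)
    (hd : p ∣ q ^ 2 - 1) (k : ℕ) : HasPair r p (PSU (2 + (2 + k)) F q) := by
  have : Fact r.Prime := ⟨CharP.char_is_prime F r⟩
  have : Fact p.Prime := ⟨hp⟩
  have h2 : (2 : F) ≠ 0 := Ring.two_ne_zero (by rwa [ringChar.eq F r])
  have h2K : (2 : KK hF) ≠ 0 := fun h => h2 (congrArg Subtype.val h)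
  have hchar : CharP (KK hF) r := CharP.subring F r (KK hF).toSubring
  have hfin : Finite (PSU (2 + (2 + k)) F q) := inferInstance
  have hcard : Fintype.card (KK hF) = q := card_KK hF
  have hkA : ∀ g, ((pr k F q).comp (blA hF k)) g = 1 → g = 1 ∨ g = -1 := fun g hg =>
    Or.inl (inj_A hF (hg.trans (map_one _).symm))
  have hC1 : ((pr k F q).comp (blC hF k)) (up 1) ≠ 1 := fun h0 => up_one_ne (inj_C hF (h0.trans (map_one _).symm))
  have hq0 : 0 < q := by
    rcases Nat.eq_zero_or_pos q with h | h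
    · rw [h] at hF
      exact absurd hF (by simp)
    · exact h
  have hd' : p ∣ (q + 1) * (q - 1) := by
    have : q ^ 2 - 1 = (q + 1) * (q - 1) := by
      have := Nat.sq_sub_sq q 1
      rwa [one_pow] at this
    rwa [this] at hd
  rcases (Nat.Prime.dvd_mul hp).1 hd' with h1 | h1
  · -- `p ∣ q + 1`
    have h3 : p ∣ Nat.card Fˣ := by
      rw [Nat.card_units, Nat.card_eq_fintype_card, hF]
      exact hd
    obtain ⟨β, hβ⟩ := exists_prime_orderOf_dvd_card' p h3
    obtain ⟨c, hc⟩ := h1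
    have hβ1 : (β : F) * (β : F) ^ q = 1 := by
      have : β ^ (q + 1) = 1 := by
        rw [hc, pow_mul, ← hβ, pow_orderOf_eq_one, one_pow]
      have h4 := congrArg Units.val this
      rw [← pow_succ']
      exact h4
    have hcond := cond_dg (k := k) hF hβ1
    obtain ⟨x, hx⟩ : ∃ x : PSU (2 + (2 + k)) F q, x = pr k F q (mk hF (dg k (β : F)) hcond) := ⟨_, rfl⟩
    have hcomm : ∀ (A B : Matrix (Fin 2) (Fin 2) F) (h : Cond {cj hF} (fromBlocks A 0 0 (fromBlocks B 0 0 (1 : Matrix (Fin k) (Fin k) F)))),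
        pr k F q (mk hF _ h) * x = x * pr k F q (mk hF _ h) := by
      intro A B h
      rw [hx, ← map_mul, ← map_mul, mk_comm hF h hcond (dg_comm _ A B)]
    have hA : ∀ y ∈ ((pr k F q).comp (blA hF k)).range, y * x = x * y := by
      rintro _ ⟨g, rfl⟩
      have := hcomm (e2 hF g).1.1 1 (by rw [fromBlocks_one]; exact (cond_un hF _).fromBlocks (Cond.one _))
      simp only [fromBlocks_one] at this
      exact this
    have hC : ∀ y ∈ ((pr k F q).comp (blC hF k)).range, y * x = x * y := by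
      rintro _ ⟨g, rfl⟩
      exact hcomm 1 (e2 hF g).1.1 ((Cond.one _).fromBlocks ((cond_un hF _).fromBlocks (Cond.one _)))
    refine hasPair_of_unip h2K hkA hC1 (B := zpowers x) (comm_AC hF) ?_ hp hp2 (by rw [hcard]; exact hd) ?_ ?_
    · rintro y hy _ ⟨n, rfl⟩
      exact (show Commute y x from hA y hy).zpow_right n
    · rw [Nat.card_zpowers]
      have hpow : ∀ n : ℕ, x ^ n = pr k F q (mk hF (dg k ((β : F) ^ n)) (cond_dg hF (by
          rw [← pow_mul, mul_comm n q, pow_mul, ← mul_pow, hβ1, one_pow]))) := by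
        intro n
        induction n with
        | zero =>
          rw [pow_zero]
          symm
          have h5 : mk hF (dg k ((β : F) ^ 0)) (cond_dg hF (by
              rw [← pow_mul, mul_comm 0 q, pow_mul, ← mul_pow, hβ1, one_pow])) = mk hF 1 (Cond.one _) := by
            rw [mk_eq_iff, pow_zero, dg_one]
          rw [h5]
          have h6 : mk hF (1 : Matrix (Ix k) (Ix k) F) (Cond.one _) = 1 := by
            apply Subtype.ext
            apply Subtype.ext
            show (1 : Matrix (Ix k) (Ix k) F).submatrix (e3 k) (e3 k) = 1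
            exact submatrix_one_equiv _
          rw [h6, map_one]
        | succ n ih =>
          rw [pow_succ, ih, hx, ← map_mul, mk_mul hF _ _ _ _ (by
            rw [dg_mul, ← pow_succ]; exact cond_dg hF (by
              rw [← pow_mul, mul_comm (n + 1) q, pow_mul, ← mul_pow, hβ1, one_pow]))]
          congr 1
          rw [mk_eq_iff, dg_mul, pow_succ]
      have hxp : orderOf x = p := by
        refine orderOf_eq_prime ?_ ?_
        · rw [hpow]
          have h5 : (β : F) ^ p = 1 := by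
            have : β ^ p = 1 := by rw [← hβ, pow_orderOf_eq_one]
            exact congrArg Units.val this
          have h6 : mk hF (dg k ((β : F) ^ p)) (cond_dg hF (by
              rw [← pow_mul, mul_comm p q, pow_mul, ← mul_pow, hβ1, one_pow])) = 1 := by
            apply Subtype.ext
            apply Subtype.ext
            show (dg k ((β : F) ^ p)).submatrix (e3 k) (e3 k) = 1
            rw [h5, dg_one]
            exact submatrix_one_equiv _
          rw [h6, map_one]
        · intro h5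
          rw [hx] at h5
          have h6 := (QuotientGroup.eq_one_iff _).1 h5
          obtain ⟨c', h7⟩ := scalar_of_mk hF h6
          have h8 := congrFun (congrFun h7 (Sum.inl 0)) (Sum.inl 0)
          have h9 := congrFun (congrFun h7 (Sum.inr (Sum.inl 0))) (Sum.inr (Sum.inl 0))
          have h10 : (β : F) = c' := by simpa [dg] using h8
          have h11 : (β : F)⁻¹ = c' := by simpa [dg] using h9
          have h12 : β ^ 2 = 1 := by
            apply Units.ext
            rw [Units.val_pow_eq_pow_val, Units.val_one, sq]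
            nth_rewrite 2 [h10]
            rw [← h11, mul_inv_cancel₀ β.ne_zero]
          have h13 := orderOf_dvd_of_pow_eq_one h12
          rw [hβ] at h13
          exact hp2 ((Nat.prime_dvd_prime_iff_eq hp Nat.prime_two).1 h13)
      rw [hxp]
    · refine le_normalizer_of_comm ?_
      rintro _ ⟨n, rfl⟩ y hy
      exact ((show Commute y x from hC y hy).zpow_right n).symm
  · -- `p ∣ q - 1`
    have h3 : p ∣ Nat.card (KK hF)ˣ := by
      rw [Nat.card_units, Nat.card_eq_fintype_card, hcard]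
      exact h1
    obtain ⟨t, ht⟩ := exists_prime_orderOf_dvd_card' p h3
    refine hasPair_of_unip h2K hkA hC1 (B := zpowers ((pr k F q).comp (blC hF k) (tor t))) (comm_AC hF) ?_ hp hp2
      (by rw [hcard]; exact hd) ?_ (zpowers_le.2 (tor_mem _ t))
    · intro x hx y hy
      have h5 : zpowers ((pr k F q).comp (blC hF k) (tor t)) ≤ ((pr k F q).comp (blC hF k)).range :=
        zpowers_le.2 ⟨tor t, rfl⟩
      exact comm_AC hF x hx y (h5 hy)
    · rw [Nat.card_zpowers, orderOf_injective _ (inj_C hF), orderOf_injective _ tor_injective, ht]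

include hF in
/-- **`PSU_n(q)`, `n ≥ 4`.** -/
theorem psu {n : ℕ} (hn : 4 ≤ n) {r : ℕ} [CharP F r] (hr2 : r ≠ 2) {p : ℕ} (hp : p.Prime) (hp2 : p ≠ 2)
    (hd : p ∣ q ^ 2 - 1) : HasPair r p (PSU n F q) := by
  obtain ⟨k, rfl⟩ : ∃ k, n = 2 + (2 + k) := ⟨n - 4, by omega⟩
  exact psu_aux hF hr2 hp hp2 hd k

end SU

end Cfsg.Agent.H609.PairMat

private theorem dce_d8ceb3ce67f5 : _root_.True := by
  try have : _root_.True := by simp only [_root_.Cfsg.Agent.H609.PairMat.mk.congr_simp]
  try have : _root_.True := by simp only [_root_.Cfsg.Agent.H609.PairMat.ww.eq_1]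
  try have : _root_.True := by simp only [_root_.Cfsg.Agent.H609.PairMat.uu.eq_1]
  try have : _root_.True := by simp only [_root_.Cfsg.Agent.H609.PairMat.dg.eq_1]
  exact _root_.True.intro
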